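import Cfsg.Agent.DCoset.Ly.Sound
import Cfsg.Agent.DCoset.Cover

/-!
From a certificate and divisors of the order to the index of ⟨a, b, c, d⟩ in the presented Lyons
group.
-/

set_option autoImplicit false
set_option maxRecDepth 100000

namespace Cfsg.Agent.DCoset.Ly

open Cfsg.Agent.DCoset Cfsg.Agent.LyMat Cfsg.Spor Cfsg.Lie

theorem iota_range : iota.range = lyH := by
  apply le_antisymm
  · rintro _ ⟨q, rfl⟩
    obtain ⟨w, rfl⟩ := PresentedGroup.mk_surjective _ q
    refine FreeGroup.induction_on w (by simpa using one_mem _) ?_ ?_ ?_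
    · intro i
      show iota (PresentedGroup.of i) ∈ _
      rw [iota_of]
      exact gen_mem i
    · intro i hi
      rw [map_inv, map_inv]
      exact inv_mem hi
    · intro x y hx hy
      rw [map_mul, map_mul]
      exact mul_mem hx hy
  · rw [lyH, MonoidHom.map_closure, Subgroup.closure_le]
    rintro _ ⟨x, hx, rfl⟩
    rcases hx with rfl | rfl | rfl | rfl
    exacts [⟨_, iota_of 0⟩, ⟨_, iota_of 1⟩, ⟨_, iota_of 2⟩, ⟨_, iota_of 3⟩]

theorem card_lyH : Nat.card lyH = 5859000000 := by
  obtain ⟨e⟩ := abcd_iso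
  have h := Cfsg.Agent.Chev.g2_card_group (ZMod 5)
  simp [ZMod.card, Fin.prod_univ_two] at h
  rw [Nat.card_congr e.toEquiv]
  omega

theorem model_gens : Subgroup.closure {x | ∃ g, g < model.nL ∧ x = model.q g} = ⊤ := by
  have := q_finite
  have h := model.card_ge (Subgroup.closure {x | ∃ g, g < model.nL ∧ x = model.q g}) qChain
    (fun l a hl ha => by
      have hg := allFrom_all (allFrom_all qChain_gen hl) ha
      simp only [QModel.checkGen, Cfsg.Agent.CosetCert.force_eq, Cfsg.Agent.CosetCert.gate_eq,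
        Bool.and_eq_true] at hg
      exact valW_mem model.q model.nL _ (fun x hx => Subgroup.subset_closure (show model.q x ∈ {y | ∃ g, g < model.nL ∧ y = model.q g} from ⟨x, hx, rfl⟩)) _ _ hg.1) (fun l a hl ha => allFrom_all (allFrom_all qChain_gen hl) ha)
    (fun l m hl hm => allFrom_all (allFrom_all qChain_pt hl) hm)
  rw [show model.k = tab.k from rfl, qChain_prod] at h
  exact Subgroup.eq_top_of_le_card _ (le_trans q_card.2 h)

theorem idx_arith0 (i c : Nat) (hc : 5859000000 * i = 15267149568 * c) :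
    3390625 * i = 8835156 * c := by omega

theorem idx_coprime : Nat.Coprime 8835156 3390625 := by norm_num

theorem idx_arith (i : Nat) (hle : i ≤ 8835156) (hne : i ≠ 0) (h : 15267149568 ∣ 5859000000 * i) :
    i = 8835156 :=
  le_antisymm hle (Nat.le_of_dvd (Nat.pos_of_ne_zero hne)
    (Nat.Coprime.dvd_of_dvd_mul_left idx_coprime (h.elim fun c hc => ⟨c, idx_arith0 i c hc⟩)))

/-- The index, given a certificate and five divisors of the order. -/
theorem index_eq (D : Steps) (C : Cover)
    (hsteps : ∀ s, s < D.len → Steps.check D rules tab s = true)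
    (hsrc : ∀ j, 1 ≤ j → j < D.nNode → D.nodeSrc j < j)
    (hV : C.Valid D rules tab 5859000000)
    (hsum : ((List.range C.nLive).map C.idx).sum = 8835156)
    (hdvd : Finite LyG → 11 ∣ Nat.card LyG ∧ 37 ∣ Nat.card LyG ∧ 67 ∣ Nat.card LyG ∧
      256 ∣ Nat.card LyG ∧ 2187 ∣ Nat.card LyG) :
    Finite LyG ∧ Nat.card LyG = 51765179004000000 ∧ lyH.index = 8835156 := by
  have := q_finite
  have hF : ∀ s, s < D.len → D.Holds rules (model.toModel iota) iota.range tEl s :=
    Steps.holds sound (fun g _ => (⟨qL g, rfl⟩ : iota (qL g) ∈ iota.range)) hsrc (show 0 < 3 by norm_num) hsteps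
  obtain ⟨hne, hle⟩ := Cover.index_le (P := model) iota tEl LyMat.q_card.2 model_gens range_gen
    sound hV hF
  rw [hsum] at hle
  rw [iota_range] at hne hle
  have hH : Finite lyH := Nat.finite_of_card_ne_zero (by rw [card_lyH]; norm_num)
  have hcard : Nat.card LyG = 5859000000 * lyH.index := by
    rw [← card_lyH, Subgroup.card_mul_index]
  have hfin : Finite LyG := Nat.finite_of_card_ne_zero (by rw [hcard]; positivity)
  obtain ⟨h11, h37, h67, h2, h3⟩ := hdvd hfin
  have hL : 15267149568 ∣ Nat.card LyG := by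
    have h1 : 11 * 37 ∣ Nat.card LyG := Nat.Coprime.mul_dvd_of_dvd_of_dvd (by norm_num) h11 h37
    have h2' : 11 * 37 * 67 ∣ Nat.card LyG := Nat.Coprime.mul_dvd_of_dvd_of_dvd (by norm_num) h1 h67
    have h3' : 11 * 37 * 67 * 256 ∣ Nat.card LyG :=
      Nat.Coprime.mul_dvd_of_dvd_of_dvd (by norm_num) h2' h2
    have h4 : 11 * 37 * 67 * 256 * 2187 ∣ Nat.card LyG :=
      Nat.Coprime.mul_dvd_of_dvd_of_dvd (by norm_num) h3' h3
    norm_num at h4
    exact h4
  have hi : lyH.index = 8835156 := by
    rw [hcard] at hL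
    exact idx_arith _ hle hne hL
  exact ⟨hfin, by rw [hcard, hi], hi⟩

end Cfsg.Agent.DCoset.Ly
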