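import Cfsg.Agent.DCoset.Ly.CoverDefs

/-! Generated by tools/dcoset/emit.py: forests and transversal. -/

set_option Elab.async false
set_option maxRecDepth 100000

namespace Cfsg.Agent.DCoset.Ly

open Cfsg.Agent.DCoset Cfsg.Agent.CosetCert

theorem point_3_10 : allFrom (Cover.checkPoint cover steps rules tab 3) 10000 1000 = true := by
  decide +kernel

theorem point_3_11 : allFrom (Cover.checkPoint cover steps rules tab 3) 11000 1000 = true := by
  decide +kernel

theorem point_3_12 : allFrom (Cover.checkPoint cover steps rules tab 3) 12000 1000 = true := by
  decide +kernel

theorem point_3_13 : allFrom (Cover.checkPoint cover steps rules tab 3) 13000 1000 = true := by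
  decide +kernel

theorem point_3_14 : allFrom (Cover.checkPoint cover steps rules tab 3) 14000 1000 = true := by
  decide +kernel


end Cfsg.Agent.DCoset.Ly
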