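import Cfsg.Agent.DCoset.Join
import Cfsg.Agent.DCoset.Ly.CheckSteps0
import Cfsg.Agent.DCoset.Ly.CheckSteps1
import Cfsg.Agent.DCoset.Ly.CheckSteps2
import Cfsg.Agent.DCoset.Ly.CheckSteps3
import Cfsg.Agent.DCoset.Ly.CheckSteps4
import Cfsg.Agent.DCoset.Ly.CheckCover
import Cfsg.Agent.DCoset.Ly.Check_tr_all0
import Cfsg.Agent.DCoset.Ly.Check_tr_all1
import Cfsg.Agent.DCoset.Ly.Check_tr_all2
import Cfsg.Agent.DCoset.Ly.Check_tr_all3
import Cfsg.Agent.DCoset.Ly.Check_point_00
import Cfsg.Agent.DCoset.Ly.Check_point_01
import Cfsg.Agent.DCoset.Ly.Check_point_02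
import Cfsg.Agent.DCoset.Ly.Check_point_03
import Cfsg.Agent.DCoset.Ly.Check_point_10
import Cfsg.Agent.DCoset.Ly.Check_point_11
import Cfsg.Agent.DCoset.Ly.Check_point_12
import Cfsg.Agent.DCoset.Ly.Check_point_13
import Cfsg.Agent.DCoset.Ly.Check_point_20
import Cfsg.Agent.DCoset.Ly.Check_point_21
import Cfsg.Agent.DCoset.Ly.Check_point_22
import Cfsg.Agent.DCoset.Ly.Check_point_23
import Cfsg.Agent.DCoset.Ly.Check_point_30
import Cfsg.Agent.DCoset.Ly.Check_point_31
import Cfsg.Agent.DCoset.Ly.Check_point_32
import Cfsg.Agent.DCoset.Ly.Check_point_33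
import Cfsg.Agent.DCoset.Ly.Check_point_40
import Cfsg.Agent.DCoset.Ly.Check_point_41
import Cfsg.Agent.DCoset.Ly.Check_point_42
import Cfsg.Agent.DCoset.Ly.Check_point_43

/-! Generated by tools/dcoset/emit.py: assembled certificate. -/

set_option Elab.async false
set_option maxRecDepth 100000

namespace Cfsg.Agent.DCoset.Ly

open Cfsg.Agent.DCoset Cfsg.Agent.CosetCert

theorem steps_ok : ∀ s, s < steps.len → Steps.check steps rules tab s = true := by
  intro s hs
  have h : allFrom (Steps.check steps rules tab) 0 6920 = true :=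
    (allFrom_join 6750 170 6920 rfl (allFrom_join 6500 250 6750 rfl (allFrom_join 6250 250 6500 rfl (allFrom_join 6000 250 6250 rfl (allFrom_join 5750 250 6000 rfl (allFrom_join 5500 250 5750 rfl (allFrom_join 5250 250 5500 rfl (allFrom_join 5000 250 5250 rfl (allFrom_join 4750 250 5000 rfl (allFrom_join 4500 250 4750 rfl (allFrom_join 4250 250 4500 rfl (allFrom_join 4000 250 4250 rfl (allFrom_join 3750 250 4000 rfl (allFrom_join 3500 250 3750 rfl (allFrom_join 3250 250 3500 rfl (allFrom_join 3000 250 3250 rfl (allFrom_join 2750 250 3000 rfl (allFrom_join 2500 250 2750 rfl (allFrom_join 2250 250 2500 rfl (allFrom_join 2000 250 2250 rfl (allFrom_join 1750 250 2000 rfl (allFrom_join 1500 250 1750 rfl (allFrom_join 1250 250 1500 rfl (allFrom_join 1000 250 1250 rfl (allFrom_join 750 250 1000 rfl (allFrom_join 500 250 750 rfl (allFrom_join 250 250 500 rfl steps_0 steps_1) steps_2) steps_3) steps_4) steps_5) steps_6) steps_7) steps_8) steps_9) steps_10) steps_11) steps_12) steps_13) steps_14) steps_15) steps_16) steps_17) steps_18) steps_19)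 steps_20) steps_21) steps_22) steps_23) steps_24) steps_25) steps_26) steps_27)
  exact allFrom_all h hs

theorem tr_all : allFrom (Cover.checkTr cover tab) 0 19530 = true :=
  (allFrom_join 19000 530 19530 rfl (allFrom_join 18000 1000 19000 rfl (allFrom_join 17000 1000 18000 rfl (allFrom_join 16000 1000 17000 rfl (allFrom_join 15000 1000 16000 rfl (allFrom_join 14000 1000 15000 rfl (allFrom_join 13000 1000 14000 rfl (allFrom_join 12000 1000 13000 rfl (allFrom_join 11000 1000 12000 rfl (allFrom_join 10000 1000 11000 rfl (allFrom_join 9000 1000 10000 rfl (allFrom_join 8000 1000 9000 rfl (allFrom_join 7000 1000 8000 rfl (allFrom_join 6000 1000 7000 rfl (allFrom_join 5000 1000 6000 rfl (allFrom_join 4000 1000 5000 rfl (allFrom_join 3000 1000 4000 rfl (allFrom_join 2000 1000 3000 rfl (allFrom_join 1000 1000 2000 rfl tr_all_0 tr_all_1) tr_all_2) tr_all_3) tr_all_4) tr_all_5) tr_all_6) tr_all_7) tr_all_8) tr_all_9) tr_all_10) tr_all_11) tr_all_12) tr_all_13) tr_all_14) tr_all_15) tr_all_16) tr_all_17) tr_all_18) tr_all_19)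

theorem point_0 : allFrom (Cover.checkPoint cover steps rules tab 0) 0 19530 = true :=
  (allFrom_join 19000 530 19530 rfl (allFrom_join 18000 1000 19000 rfl (allFrom_join 17000 1000 18000 rfl (allFrom_join 16000 1000 17000 rfl (allFrom_join 15000 1000 16000 rfl (allFrom_join 14000 1000 15000 rfl (allFrom_join 13000 1000 14000 rfl (allFrom_join 12000 1000 13000 rfl (allFrom_join 11000 1000 12000 rfl (allFrom_join 10000 1000 11000 rfl (allFrom_join 9000 1000 10000 rfl (allFrom_join 8000 1000 9000 rfl (allFrom_join 7000 1000 8000 rfl (allFrom_join 6000 1000 7000 rfl (allFrom_join 5000 1000 6000 rfl (allFrom_join 4000 1000 5000 rfl (allFrom_join 3000 1000 4000 rfl (allFrom_join 2000 1000 3000 rfl (allFrom_join 1000 1000 2000 rfl point_0_0 point_0_1) point_0_2) point_0_3) point_0_4) point_0_5) point_0_6) point_0_7) point_0_8) point_0_9) point_0_10) point_0_11) point_0_12) point_0_13) point_0_14) point_0_15) point_0_16) point_0_17) point_0_18) point_0_19)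

theorem point_1 : allFrom (Cover.checkPoint cover steps rules tab 1) 0 19530 = true :=
  (allFrom_join 19000 530 19530 rfl (allFrom_join 18000 1000 19000 rfl (allFrom_join 17000 1000 18000 rfl (allFrom_join 16000 1000 17000 rfl (allFrom_join 15000 1000 16000 rfl (allFrom_join 14000 1000 15000 rfl (allFrom_join 13000 1000 14000 rfl (allFrom_join 12000 1000 13000 rfl (allFrom_join 11000 1000 12000 rfl (allFrom_join 10000 1000 11000 rfl (allFrom_join 9000 1000 10000 rfl (allFrom_join 8000 1000 9000 rfl (allFrom_join 7000 1000 8000 rfl (allFrom_join 6000 1000 7000 rfl (allFrom_join 5000 1000 6000 rfl (allFrom_join 4000 1000 5000 rfl (allFrom_join 3000 1000 4000 rfl (allFrom_join 2000 1000 3000 rfl (allFrom_join 1000 1000 2000 rfl point_1_0 point_1_1) point_1_2) point_1_3) point_1_4) point_1_5) point_1_6) point_1_7) point_1_8) point_1_9) point_1_10) point_1_11) point_1_12) point_1_13) point_1_14) point_1_15) point_1_16) point_1_17) point_1_18) point_1_19)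

theorem point_2 : allFrom (Cover.checkPoint cover steps rules tab 2) 0 19530 = true :=
  (allFrom_join 19000 530 19530 rfl (allFrom_join 18000 1000 19000 rfl (allFrom_join 17000 1000 18000 rfl (allFrom_join 16000 1000 17000 rfl (allFrom_join 15000 1000 16000 rfl (allFrom_join 14000 1000 15000 rfl (allFrom_join 13000 1000 14000 rfl (allFrom_join 12000 1000 13000 rfl (allFrom_join 11000 1000 12000 rfl (allFrom_join 10000 1000 11000 rfl (allFrom_join 9000 1000 10000 rfl (allFrom_join 8000 1000 9000 rfl (allFrom_join 7000 1000 8000 rfl (allFrom_join 6000 1000 7000 rfl (allFrom_join 5000 1000 6000 rfl (allFrom_join 4000 1000 5000 rfl (allFrom_join 3000 1000 4000 rfl (allFrom_join 2000 1000 3000 rfl (allFrom_join 1000 1000 2000 rfl point_2_0 point_2_1) point_2_2) point_2_3) point_2_4) point_2_5) point_2_6) point_2_7) point_2_8) point_2_9) point_2_10) point_2_11) point_2_12) point_2_13) point_2_14) point_2_15) point_2_16) point_2_17) point_2_18) point_2_19)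

theorem point_3 : allFrom (Cover.checkPoint cover steps rules tab 3) 0 19530 = true :=
  (allFrom_join 19000 530 19530 rfl (allFrom_join 18000 1000 19000 rfl (allFrom_join 17000 1000 18000 rfl (allFrom_join 16000 1000 17000 rfl (allFrom_join 15000 1000 16000 rfl (allFrom_join 14000 1000 15000 rfl (allFrom_join 13000 1000 14000 rfl (allFrom_join 12000 1000 13000 rfl (allFrom_join 11000 1000 12000 rfl (allFrom_join 10000 1000 11000 rfl (allFrom_join 9000 1000 10000 rfl (allFrom_join 8000 1000 9000 rfl (allFrom_join 7000 1000 8000 rfl (allFrom_join 6000 1000 7000 rfl (allFrom_join 5000 1000 6000 rfl (allFrom_join 4000 1000 5000 rfl (allFrom_join 3000 1000 4000 rfl (allFrom_join 2000 1000 3000 rfl (allFrom_join 1000 1000 2000 rfl point_3_0 point_3_1) point_3_2) point_3_3) point_3_4) point_3_5) point_3_6) point_3_7) point_3_8) point_3_9) point_3_10) point_3_11) point_3_12) point_3_13) point_3_14) point_3_15) point_3_16) point_3_17) point_3_18) point_3_19)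

theorem point_4 : allFrom (Cover.checkPoint cover steps rules tab 4) 0 19530 = true :=
  (allFrom_join 19000 530 19530 rfl (allFrom_join 18000 1000 19000 rfl (allFrom_join 17000 1000 18000 rfl (allFrom_join 16000 1000 17000 rfl (allFrom_join 15000 1000 16000 rfl (allFrom_join 14000 1000 15000 rfl (allFrom_join 13000 1000 14000 rfl (allFrom_join 12000 1000 13000 rfl (allFrom_join 11000 1000 12000 rfl (allFrom_join 10000 1000 11000 rfl (allFrom_join 9000 1000 10000 rfl (allFrom_join 8000 1000 9000 rfl (allFrom_join 7000 1000 8000 rfl (allFrom_join 6000 1000 7000 rfl (allFrom_join 5000 1000 6000 rfl (allFrom_join 4000 1000 5000 rfl (allFrom_join 3000 1000 4000 rfl (allFrom_join 2000 1000 3000 rfl (allFrom_join 1000 1000 2000 rfl point_4_0 point_4_1) point_4_2) point_4_3) point_4_4) point_4_5) point_4_6) point_4_7) point_4_8) point_4_9) point_4_10) point_4_11) point_4_12) point_4_13) point_4_14) point_4_15) point_4_16) point_4_17) point_4_18) point_4_19)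

theorem node_src : ∀ j, 1 ≤ j → j < steps.nNode → steps.nodeSrc j < j := fun j h1 h2 =>
  Nat.ble_eq.mp ((allFrom_iff _ _ _).1 src_all j h1 (by change j < 14 at h2; omega))

/-- The sum of the suborbit lengths. -/
theorem idx_sum : ((List.range cover.nLive).map cover.idx).sum = 8835156 := by
  decide +kernel

theorem valid : cover.Valid steps rules tab 5859000000 where
  nP_pos := by decide
  live_zero := ⟨by decide, by decide +kernel⟩
  u_ok l hl := allFrom_all u_all hl
  tr_ok c hc := allFrom_all tr_all hc
  stab_ok m a hm ha := allFrom_all (allFrom_all stab_all hm : allFrom _ 0 (nStab m) = true) ha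
  point_ok m c hm hc := by
    change m < 5 at hm
    interval_cases m
    · exact allFrom_all point_0 hc
    · exact allFrom_all point_1 hc
    · exact allFrom_all point_2 hc
    · exact allFrom_all point_3 hc
    · exact allFrom_all point_4 hc
  chain_gen m l a hm hl ha := by
    change m < 5 at hm
    interval_cases m
    · exact allFrom_all (allFrom_all gen_0 hl : _) ha
    · exact allFrom_all (allFrom_all gen_1 hl : _) ha
    · exact allFrom_all (allFrom_all gen_2 hl : _) ha
    · exact allFrom_all (allFrom_all gen_3 hl : _) ha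
    · exact allFrom_all (allFrom_all gen_4 hl : _) ha
  chain_pt m l j hm hl hj := by
    change m < 5 at hm
    interval_cases m
    · exact allFrom_all (allFrom_all pt_0 hl : _) hj
    · exact allFrom_all (allFrom_all pt_1 hl : _) hj
    · exact allFrom_all (allFrom_all pt_2 hl : _) hj
    · exact allFrom_all (allFrom_all pt_3 hl : _) hj
    · exact allFrom_all (allFrom_all pt_4 hl : _) hj
  chain_mem m l a hm hl ha := by
    refine ⟨chOff (m * 4 + l) + a, ?_, rfl⟩
    have h := Nat.ble_eq.mp (allFrom_all (allFrom_all bounds_all hm : allFrom _ 0 4 = true) hl)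
    change a < chCnt (m * 4 + l) at ha
    change chOff (m * 4 + l) + chCnt (m * 4 + l) ≤ nStab m at h
    change chOff (m * 4 + l) + a < nStab m
    omega
  idx_eq := by
    intro m hm
    change m < 5 at hm
    interval_cases m
    · decide +kernel
    · decide +kernel
    · decide +kernel
    · decide +kernel
    · decide +kernel

end Cfsg.Agent.DCoset.Ly
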