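import Cfsg.Agent.DCoset.Emit

/-! Point by point checks of the relators in the eight letters. -/

namespace Cfsg.Agent.DCoset.Ly

open Cfsg.Agent.DCoset Cfsg.Agent.CosetCert

/-- Apply a list of letters to a point. -/
noncomputable def goL (act : Nat → Nat → Nat) : List Nat → Nat → Nat :=
  fun l => List.rec (fun p => p) (fun g _ ih p => force (act g p) fun q => ih q) l

theorem goL_eq (act : Nat → Nat → Nat) : ∀ (l : List Nat) (p : Nat),
    goL act l p = l.foldl (fun p g => act g p) p
  | [], _ => rfl
  | g :: l, p => by
    show force (act g p) (fun q => goL act l q) = _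
    rw [force_eq, goL_eq act l, List.foldl_cons]

/-- Every listed word fixes the point. -/
noncomputable def fixAll (act : Nat → Nat → Nat) (L : List (List Nat)) (p : Nat) : Bool :=
  L.all fun w => Nat.beq (goL act w p) p

/-- The inverse of a letter. -/
def ivL (g : Nat) : Nat := if g < 4 then g + 4 else g - 4

/-- Letter `g` stays among `N` points and is undone by its inverse. -/
noncomputable def letOk (act : Nat → Nat → Nat) (N g p : Nat) : Bool :=
  gate (Nat.blt (act g p) N) (Nat.beq (act (ivL g) (act g p)) p)

end Cfsg.Agent.DCoset.Ly
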