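import Mathlib
import Cfsg.Agent.DCoset.Pts

/-! Generated by tools/dcoset/emit.py: words for the model. -/

set_option Elab.async false

namespace Cfsg.Agent.DCoset.Ly

open Cfsg.Agent.DCoset Cfsg.Agent.CosetCert

/-- The ten generators of the presented G2(5) as words in the eight letters. -/
def genWord : List (List Nat) := [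
  [0],
  [1],
  [2],
  [3],
  [5, 5, 4, 6, 0, 2, 4, 2, 0, 3, 2, 1, 0, 5, 3, 2, 3],
  [2],
  [4, 2, 0],
  [5, 2, 1],
  [1, 2, 5],
  [6, 4, 6, 0, 2, 4, 2, 0]]

/-- The relators in the eight letters. -/
def relFlat : List (List Nat) := [
  [0, 0, 0, 0, 0, 0, 0, 0],
  [1, 1, 1, 1, 1],
  [0, 1, 0, 1, 0, 1, 0, 1],
  [4, 4, 5, 0, 0, 1],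
  [4, 5, 0, 1, 4, 5, 0, 1, 4, 5, 0, 1],
  [2, 6],
  [4, 2, 0, 4, 6, 0],
  [5, 2, 1, 5, 6, 1],
  [1, 2, 5, 1, 6, 5],
  [6, 4, 6, 0, 2, 4, 2, 0, 4, 6, 0, 6, 4, 2, 0, 2],
  [2, 2, 2, 2, 2],
  [6, 4, 6, 0, 2, 4, 2, 0, 6, 4, 6, 0, 2, 4, 2, 0, 6, 4, 6, 0, 2, 4, 2, 0, 6, 4, 6, 0, 2, 4, 2, 0, 6, 4, 6, 0, 2, 4, 2, 0],
  [6, 4, 6, 0, 6, 4, 2, 0, 2, 2, 6, 4, 6, 0, 2, 4, 2, 0],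
  [4, 6, 0, 4, 6, 0, 6, 4, 2, 0, 2, 4, 2, 0, 6, 4, 6, 0, 2, 4, 2, 0],
  [5, 6, 1, 4, 6, 0, 6, 4, 2, 0, 2, 5, 2, 1, 6, 4, 6, 0, 2, 4, 2, 0],
  [1, 6, 5, 4, 6, 0, 6, 4, 2, 0, 2, 1, 2, 5, 6, 4, 6, 0, 2, 4, 2, 0],
  [6, 5, 6, 1, 2, 5, 2, 1, 6, 4, 6, 0, 2, 4, 2, 0, 6, 4, 6, 0, 2, 4, 2, 0],
  [6, 1, 6, 5, 2, 1, 2, 5, 4, 6, 0, 6, 4, 2, 0, 2, 4, 6, 0, 6, 4, 2, 0, 2],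
  [4, 6, 0, 5, 6, 1, 4, 2, 0, 5, 2, 1, 6, 4, 6, 0, 2, 4, 2, 0],
  [4, 6, 0, 1, 6, 5, 4, 2, 0, 1, 2, 5],
  [5, 6, 1, 1, 6, 5, 5, 2, 1, 1, 2, 5, 6, 4, 6, 0, 2, 4, 2, 0],
  [4, 4, 2, 0, 0, 2, 2],
  [4, 5, 2, 1, 0, 1, 6, 5, 6, 5, 2, 1, 5, 2, 1],
  [4, 1, 2, 5, 0, 1, 6, 5, 6, 1, 6, 5, 5, 2, 1, 4, 2, 0, 6],
  [4, 6, 4, 6, 0, 2, 4, 2, 0, 0, 4, 6, 0, 6, 4, 2, 0, 2, 4, 6, 0, 6, 4, 2, 0, 2],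
  [5, 4, 2, 0, 1, 1, 2, 5, 2, 1, 2, 5, 5, 6, 1, 4, 6, 0],
  [5, 5, 2, 1, 1, 5, 2, 1, 5, 2, 1, 1, 6, 5, 6, 6],
  [5, 6, 4, 6, 0, 2, 4, 2, 0, 1, 4, 6, 0, 6, 4, 2, 0, 2],
  [5, 5, 4, 6, 0, 2, 4, 2, 0, 3, 2, 1, 0, 5, 3, 2, 3, 7, 6, 7, 1, 4, 5, 6, 7, 4, 6, 0, 6, 4, 2, 0, 1, 1],
  [5, 5, 4, 6, 0, 2, 4, 2, 0, 3, 2, 1, 0, 5, 3, 2, 3, 5, 5, 4, 6, 0, 2, 4, 2, 0, 3, 2, 1, 0, 5, 3, 2, 3],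
  [7, 6, 7, 1, 4, 5, 6, 7, 4, 6, 0, 6, 4, 2, 0, 1, 1, 2, 5, 5, 4, 6, 0, 2, 4, 2, 0, 3, 2, 1, 0, 5, 3, 2, 3, 2, 5, 5, 6, 1, 5],
  [7, 6, 7, 1, 4, 5, 6, 7, 4, 6, 0, 6, 4, 2, 0, 1, 1, 5, 2, 1, 5, 5, 4, 6, 0, 2, 4, 2, 0, 3, 2, 1, 0, 5, 3, 2, 3, 0, 1, 2, 5, 2, 4, 6, 0, 4, 5, 5],
  [7, 6, 7, 1, 4, 5, 6, 7, 4, 6, 0, 6, 4, 2, 0, 1, 1, 1, 2, 5, 5, 5, 4, 6, 0, 2, 4, 2, 0, 3, 2, 1, 0, 5, 3, 2, 3, 1, 6, 5, 5, 2, 1, 5, 5],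
  [7, 6, 7, 1, 4, 5, 6, 7, 4, 6, 0, 6, 4, 2, 0, 1, 1, 6, 4, 6, 0, 2, 4, 2, 0, 5, 5, 4, 6, 0, 2, 4, 2, 0, 3, 2, 1, 0, 5, 3, 2, 3, 1, 2, 5, 6, 5, 2, 1, 6],
  [5, 5, 4, 6, 0, 2, 4, 2, 0, 3, 2, 1, 0, 5, 3, 2, 3, 0, 0, 5, 5, 4, 6, 0, 2, 4, 2, 0, 3, 2, 1, 0, 5, 3, 2, 3, 1, 2, 5, 4, 6, 0, 6, 4, 2, 0, 2, 6, 4, 1, 4, 5, 5, 4],
  [7, 6, 7, 1, 4, 5, 6, 7, 4, 6, 0, 6, 4, 2, 0, 1, 1, 1, 5, 5, 4, 6, 0, 2, 4, 2, 0, 3, 2, 1, 0, 5, 3, 2, 3, 1, 2, 5, 1, 2, 5, 5, 2, 1, 6],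
  [5, 5, 4, 6, 0, 2, 4, 2, 0, 3, 2, 1, 0, 5, 3, 2, 3, 0, 1, 1, 0, 5, 0, 5, 5, 4, 6, 0, 2, 4, 2, 0, 3, 2, 1, 0, 5, 3, 2, 3, 1, 2, 5, 4, 6, 0, 6, 4, 2, 0, 2, 6, 4, 4],
  [5, 5, 4, 6, 0, 2, 4, 2, 0, 3, 2, 1, 0, 5, 3, 2, 3, 4, 2, 0, 5, 5, 4, 6, 0, 2, 4, 2, 0, 3, 2, 1, 0, 5, 3, 2, 3, 4, 6, 0, 5, 5, 4, 6, 0, 2, 4, 2, 0, 3, 2, 1, 0, 5, 3, 2, 3, 4, 2, 0, 1, 6, 5, 0, 5, 2, 1, 0, 0, 0],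
  [3, 7, 6, 7, 1, 4, 5, 6, 7, 4, 6, 0, 6, 4, 2, 0, 1, 1, 5, 4, 2, 0, 4, 7, 6, 7, 1, 4, 5, 6, 7, 4, 6, 0, 6, 4, 2, 0, 1, 1, 4, 7, 6, 7, 1, 4, 5, 6, 7, 4, 6, 0, 6, 4, 2, 0, 1, 1, 4, 6, 4, 6, 0, 2, 4, 2, 0, 1, 2, 5, 2, 1, 0, 5, 5, 4],
  [3, 3, 4, 4, 4, 4],
  [5, 7, 1, 3],
  [7, 0, 3, 4, 4, 4],
  [3, 6, 4, 6, 0, 2, 4, 2, 0, 3, 6, 4, 6, 0, 2, 4, 2, 0, 3, 6, 4, 6, 0, 2, 4, 2, 0, 3, 6, 4, 6, 0, 2, 4, 2, 0, 3, 6, 4, 6, 0, 2, 4, 2, 0],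
  [3, 6, 4, 6, 0, 2, 4, 2, 0, 3, 4, 6, 0, 6, 4, 2, 0, 2, 3, 6, 4, 6, 0, 2, 4, 2, 0, 4, 4]]

end Cfsg.Agent.DCoset.Ly
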