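import Cfsg.Agent.DCoset.Ly.Table
import Cfsg.Agent.DCoset.Ly.ModelDefs
import Cfsg.Agent.DCoset.Ly.ModelWords

/-! Generated: the relators fix every point. -/

set_option maxRecDepth 100000
set_option Elab.async false

namespace Cfsg.Agent.DCoset.Ly

open Cfsg.Agent.DCoset Cfsg.Agent.CosetCert

theorem rel_3_0 : allFrom (fixAll tab.act ((relFlat.drop 33).take 11)) 0 1000 = true := by
  decide +kernel

theorem rel_3_1 : allFrom (fixAll tab.act ((relFlat.drop 33).take 11)) 1000 1000 = true := by
  decide +kernel

theorem rel_3_2 : allFrom (fixAll tab.act ((relFlat.drop 33).take 11)) 2000 1000 = true := by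
  decide +kernel

theorem rel_3_3 : allFrom (fixAll tab.act ((relFlat.drop 33).take 11)) 3000 906 = true := by
  decide +kernel

end Cfsg.Agent.DCoset.Ly
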