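import Cfsg.Agent.DCoset.Ly.Bound
import Cfsg.Agent.Chev.SimpleAll

/-!
Simplicity of the presented Lyons group from the five suborbits of ⟨a, b, c, d⟩.

A normal subgroup meeting ⟨a, b, c, d⟩ trivially is a union of suborbits, so it is trivial or a
regular one, and then its elements would have at most five orders; a normal subgroup containing
⟨a, b, c, d⟩ contains z.
-/

set_option autoImplicit false
set_option maxRecDepth 100000

namespace Cfsg.Agent.DCoset.Ly

open Cfsg.Agent.DCoset Cfsg.Agent.LyMat Cfsg.Spor Cfsg.Lie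

/-- The exponent sum of z. -/
def expZ : List (Fin 5 × Bool) → Int
  | [] => 0
  | (i, s) :: l => (if i = 4 then cond s 1 (-1) else 0) + expZ l

theorem lift_expZ {K : Type*} [Group K] (v : Fin 5 → K) (hv : ∀ i, i ≠ 4 → v i = 1) :
    ∀ l, FreeGroup.lift v (FreeGroup.mk l) = v 4 ^ expZ l
  | [] => by simp [expZ, FreeGroup.lift_mk]
  | (i, s) :: l => by
    have ih := lift_expZ v hv l
    rw [FreeGroup.lift_mk] at ih ⊢
    rw [List.map_cons, List.prod_cons, ih, expZ, zpow_add]
    congr 1
    by_cases hi : i = 4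
    · subst hi; cases s <;> simp
    · cases s <;> simp [hv i hi, hi]

theorem relE_exp : expZ (relE 80) = 2 ∧ expZ (relE 81) = 3 := by decide +kernel

/-- A normal subgroup containing the image of the model is everything. -/
theorem top_of_range_le (N : Subgroup LyG) [N.Normal] (h : iota.range ≤ N) : N = ⊤ := by
  let π := QuotientGroup.mk' N
  have hu : ∀ i, i ≠ 4 → π (u5 i) = 1 := by
    intro i hi
    refine (QuotientGroup.eq_one_iff _).2 (h ?_)
    rw [iota_range]
    fin_cases i
    · exact base_mem (x := Ly.a) (by simp)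
    · exact base_mem (x := Ly.b) (by simp)
    · exact base_mem (x := Ly.c) (by simp)
    · exact base_mem (x := Ly.d) (by simp)
    · exact absurd rfl hi
  have hev : ∀ l, π (ev5 l) = π (u5 4) ^ expZ l := fun l => by
    rw [← lift_expZ (fun i => π (u5 i)) hu l, ev5]
    exact DFunLike.congr_fun (FreeGroup.ext_hom (π.comp (FreeGroup.lift u5))
      (FreeGroup.lift fun i => π (u5 i)) fun i => by simp) _
  have h2 := hev (relE 80)
  have h3 := hev (relE 81)
  rw [relE_one, map_one, relE_exp.1] at h2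
  rw [relE_one, map_one, relE_exp.2] at h3
  have hz : π (u5 4) = 1 := by
    rw [show (3 : Int) = 2 + 1 by norm_num, zpow_add, ← h2, one_mul, zpow_one] at h3
    exact h3.symm
  rw [eq_top_iff, ← range_gen, Subgroup.closure_le]
  rintro _ (⟨q, rfl⟩ | ⟨t, -, rfl⟩)
  · exact h ⟨q, rfl⟩
  · refine (QuotientGroup.eq_one_iff _).1 ?_
    show π (ev5 (tW t)) = 1
    rw [hev, hz, one_zpow]

/-- The suborbits are exact. -/
theorem orbits_exact (D : Steps) (C : Cover)
    (hsteps : ∀ s, s < D.len → Steps.check D rules tab s = true)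
    (hsrc : ∀ j, 1 ≤ j → j < D.nNode → D.nodeSrc j < j)
    (hV : C.Valid D rules tab 5859000000)
    (hsum : ((List.range C.nLive).map C.idx).sum = 8835156) (hidx : lyH.index = 8835156) :
    ∃ node : Fin C.nLive → LyG, (∀ m : Fin C.nLive, m.1 = 0 → node m = 1) ∧
      ∀ (P : LyG ⧸ iota.range → Prop) (hP : ∀ m k k',
          P (QuotientGroup.mk (iota k * node m)) → P (QuotientGroup.mk (iota k' * node m))),
        ∃ S : Finset (Fin C.nLive), (∀ m, m ∈ S ↔ ∀ k, P (QuotientGroup.mk (iota k * node m))) ∧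
          (∀ z, P z → ∃ m ∈ S, ∃ k, z = QuotientGroup.mk (iota k * node m)) ∧
          Nat.card {z // P z} = ∑ m ∈ S, C.idx m.1 := by
  classical
  have := q_finite
  have hF : ∀ s, s < D.len → D.Holds rules (model.toModel iota) iota.range tEl s :=
    Steps.holds sound (fun g _ => (⟨qL g, rfl⟩ : iota (qL g) ∈ iota.range)) hsrc
      (show 0 < 3 by norm_num) hsteps
  obtain ⟨node, h0, hfin, hsurj, hle⟩ := Cover.orbit_bound (P := model) iota tEl LyMat.q_card.2
    model_gens range_gen sound hV hF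
  refine ⟨node, h0, ?_⟩
  have hcard : Nat.card (LyG ⧸ iota.range) = 8835156 := by
    rw [← Subgroup.index_eq_card, iota_range, hidx]
  let O : Fin C.nLive → Type := fun m =>
    {z : LyG ⧸ iota.range // ∃ k, z = QuotientGroup.mk (iota k * node m)}
  let Φ : (Σ m, O m) → LyG ⧸ iota.range := fun x => x.2.1
  have hΦs : Function.Surjective Φ := fun z => by
    obtain ⟨m, k, hk⟩ := hsurj z
    exact ⟨⟨m, z, k, hk⟩, rfl⟩
  have hsum' : ∑ m : Fin C.nLive, C.idx m.1 = 8835156 := by
    rw [Fin.sum_univ_eq_sum_range (fun m => C.idx m) C.nLive]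
    exact hsum
  have hge := Nat.card_le_card_of_surjective Φ hΦs
  rw [Nat.card_sigma, hcard] at hge
  have hsle : ∑ m, Nat.card (O m) ≤ 8835156 := hsum' ▸ Finset.sum_le_sum fun m _ => hle m
  have heq : ∀ m, Nat.card (O m) = C.idx m.1 := fun m =>
    ((Finset.sum_eq_sum_iff_of_le (f := fun i => Nat.card (O i)) (g := fun i : Fin C.nLive =>
      C.idx i.1) fun i _ => hle i).1 (by rw [hsum']; omega)) m (Finset.mem_univ m)
  have hΦb : Function.Bijective Φ := hΦs.bijective_of_nat_card_le (by
    rw [Nat.card_sigma, hcard]; exact hsle)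
  intro P hP
  refine ⟨Finset.univ.filter fun m => ∀ k, P (QuotientGroup.mk (iota k * node m)), fun m => by simp,
    fun z hz => ?_, ?_⟩
  · obtain ⟨m, k, rfl⟩ := hsurj z
    exact ⟨m, Finset.mem_filter.2 ⟨Finset.mem_univ _, fun k' => hP m k k' hz⟩, k, rfl⟩
  · let Ψ : (Σ m : {m // m ∈ Finset.univ.filter fun m =>
        ∀ k, P (QuotientGroup.mk (iota k * node m))}, O m.1) → {z // P z} := fun x =>
      ⟨x.2.1, by
        obtain ⟨⟨m, hm⟩, z, k, hk⟩ := x
        show P z
        rw [hk]
        exact (Finset.mem_filter.1 hm).2 k⟩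
    have hΨ : Function.Bijective Ψ := by
      constructor
      · rintro ⟨m, x⟩ ⟨m', x'⟩ h
        have e := hΦb.1 (a₁ := ⟨m.1, x⟩) (a₂ := ⟨m'.1, x'⟩) (congrArg Subtype.val h)
        obtain ⟨e1, e2⟩ := Sigma.mk.inj_iff.1 e
        obtain rfl := Subtype.ext e1
        rw [eq_of_heq e2]
      · rintro ⟨z, hz⟩
        obtain ⟨m, k, hk⟩ := hsurj z
        exact ⟨⟨⟨m, Finset.mem_filter.2 ⟨Finset.mem_univ _, fun k' => hP m k k' (hk ▸ hz)⟩⟩,
          z, k, hk⟩, rfl⟩
    rw [← Nat.card_congr (Equiv.ofBijective Ψ hΨ), Nat.card_sigma]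
    simp only [heq]
    exact Finset.sum_coe_sort _ fun m : Fin C.nLive => C.idx m.1

/-- The presented Lyons group is simple, given a certificate. -/
theorem simple_eq (D : Steps) (C : Cover)
    (hsteps : ∀ s, s < D.len → Steps.check D rules tab s = true)
    (hsrc : ∀ j, 1 ≤ j → j < D.nNode → D.nodeSrc j < j)
    (hV : C.Valid D rules tab 5859000000)
    (hsum : ((List.range C.nLive).map C.idx).sum = 8835156) (hlive : C.nLive = 5)
    (hsub : ∀ S : Finset (Fin C.nLive), (∀ m : Fin C.nLive, m.1 = 0 → m ∈ S) →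
      (∑ m ∈ S, C.idx m.1) ∣ 8835156 → (∑ m ∈ S, C.idx m.1) = 1 ∨ (∑ m ∈ S, C.idx m.1) = 8835156)
    (hfin : Finite LyG) (hidx : lyH.index = 8835156) : IsSimpleGroup LyG := by
  classical
  obtain ⟨e⟩ := abcd_iso
  have hchev : IsSimpleGroup ↥(chevG2.group (ZMod 5)) :=
    (Cfsg.Agent.Chev.g2_simple (ZMod 5) ⟨2, by decide, by decide⟩).1
  have hsimp : IsSimpleGroup ↥lyH := e.isSimpleGroup
  have : Nontrivial LyG := (Subgroup.subtype_injective lyH).nontrivial
  refine ⟨fun N hN => ?_⟩
  rcases (hN.subgroupOf lyH).eq_bot_or_eq_top with h | h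
  · left
    have hdis : ∀ x ∈ N, x ∈ iota.range → x = 1 := by
      intro x hx hx'
      rw [iota_range] at hx'
      have : (⟨x, hx'⟩ : lyH) ∈ N.subgroupOf lyH := hx
      rw [h, Subgroup.mem_bot] at this
      exact congrArg Subtype.val this
    have hinj : ∀ n ∈ N, ∀ n' ∈ N, (QuotientGroup.mk n : LyG ⧸ iota.range) = QuotientGroup.mk n' →
        n = n' := fun n hn n' hn' e =>
      inv_mul_eq_one.1 (hdis _ (N.mul_mem (N.inv_mem hn) hn') (QuotientGroup.eq.1 e))
    obtain ⟨node, hnode0, horb⟩ := orbits_exact D C hsteps hsrc hV hsum hidx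
    have hconj : ∀ j n, (QuotientGroup.mk (iota j * n) : LyG ⧸ iota.range) =
        QuotientGroup.mk (iota j * n * (iota j)⁻¹) := fun j n => QuotientGroup.eq.2 (by
      simpa [mul_assoc] using (iota.range).inv_mem ⟨j, rfl⟩)
    have hP : ∀ m k k', (∃ n ∈ N, (QuotientGroup.mk n : LyG ⧸ iota.range) =
          QuotientGroup.mk (iota k * node m)) →
        ∃ n ∈ N, (QuotientGroup.mk n : LyG ⧸ iota.range) = QuotientGroup.mk (iota k' * node m) := by
      rintro m k k' ⟨n, hn, en⟩
      refine ⟨iota (k' * k⁻¹) * n * (iota (k' * k⁻¹))⁻¹, hN.conj_mem _ hn _, ?_⟩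
      rw [← hconj, QuotientGroup.eq]
      rw [QuotientGroup.eq] at en
      simpa [mul_assoc, map_mul] using en
    obtain ⟨S, hS, hSz, hScard⟩ := horb (fun z => ∃ n ∈ N, QuotientGroup.mk n = z) hP
    have hS0 : ∀ m : Fin C.nLive, m.1 = 0 → m ∈ S := fun m hm => (hS m).2 fun k =>
      ⟨1, N.one_mem, by rw [hnode0 m hm, mul_one]; exact QuotientGroup.eq.2 (by simp)⟩
    have hNcard : Nat.card N = ∑ m ∈ S, C.idx m.1 := by
      rw [← hScard]
      refine Nat.card_congr (Equiv.ofBijective
        (fun n : N => (⟨QuotientGroup.mk n.1, n.1, n.2, rfl⟩ :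
          {z : LyG ⧸ iota.range // ∃ n ∈ N, QuotientGroup.mk n = z})) ⟨?_, ?_⟩)
      · intro n n' e
        exact Subtype.ext (hinj _ n.2 _ n'.2 (congrArg Subtype.val e))
      · rintro ⟨_, n, hn, rfl⟩
        exact ⟨⟨n, hn⟩, rfl⟩
    have hdvd : Nat.card N ∣ 8835156 := by
      let f : lyH →* LyG ⧸ N := (QuotientGroup.mk' N).comp lyH.subtype
      have hf : Function.Injective f := by
        rw [injective_iff_map_eq_one]
        rintro ⟨x, hx⟩ hx1
        exact Subtype.ext (hdis x ((QuotientGroup.eq_one_iff x).1 hx1) (iota_range ▸ hx))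
      have h1 : Nat.card lyH ∣ N.index := by
        rw [Nat.card_congr (MonoidHom.ofInjective hf).toEquiv, Subgroup.index_eq_card]
        exact Subgroup.card_subgroup_dvd_card _
      have h2 := Subgroup.card_mul_index N
      rw [← Subgroup.card_mul_index lyH, hidx] at h2
      obtain ⟨c, hc⟩ := h1
      refine ⟨c, Nat.eq_of_mul_eq_mul_left (by rw [card_lyH]; norm_num : 0 < Nat.card lyH) ?_⟩
      rw [← h2, hc]
      ring
    rcases hsub S hS0 (hNcard ▸ hdvd) with h1 | h1
    · exact Subgroup.card_eq_one.1 (hNcard.trans h1)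
    · exfalso
      rw [← hNcard] at h1
      let pr : Fin 5 → Nat := ![2, 3, 11, 37, 67]
      have hel : ∀ i : Fin 5, ∃ g : N, orderOf g = pr i := fun i => by
        have : Fact (pr i).Prime := ⟨by fin_cases i <;> norm_num [pr]⟩
        exact exists_prime_orderOf_dvd_card' (pr i) (by rw [h1]; fin_cases i <;> norm_num [pr])
      choose g hg using hel
      have hne : ∀ i, (g i : LyG) ≠ 1 := fun i hgi => by
        have h := hg i
        rw [show g i = 1 from Subtype.ext hgi, orderOf_one] at h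
        fin_cases i <;> simp [pr] at h
      have hm : ∀ i, ∃ m : Fin C.nLive, m.1 ≠ 0 ∧ ∃ k,
          (QuotientGroup.mk (g i : LyG) : LyG ⧸ iota.range) = QuotientGroup.mk (iota k * node m) := by
        intro i
        obtain ⟨m, -, k, hk⟩ := hSz _ ⟨(g i : LyG), (g i).2, rfl⟩
        refine ⟨m, fun hm => hne i (hinj _ (g i).2 _ N.one_mem ?_), k, hk⟩
        rw [hk, hnode0 m hm, mul_one]
        exact QuotientGroup.eq.2 (by simp)
      choose mm hm0 hk using hm
      obtain ⟨i, -, j, -, hij, he⟩ := Finset.exists_ne_map_eq_of_card_lt_of_maps_to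
        (s := (Finset.univ : Finset (Fin 5)))
        (t := Finset.univ.filter fun m : Fin C.nLive => m.1 ≠ 0) (by
          have : (Finset.univ.filter fun m : Fin C.nLive => m.1 ≠ 0) =
              Finset.univ.erase ⟨0, by omega⟩ := by
            ext m; simp [Fin.ext_iff]
          rw [this, Finset.card_erase_of_mem (Finset.mem_univ _)]
          simp [hlive]) (f := mm) (fun i _ => Finset.mem_filter.2 ⟨Finset.mem_univ _, hm0 i⟩)
      obtain ⟨k, hki⟩ := hk i
      obtain ⟨k', hkj⟩ := hk j
      rw [← he] at hkj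
      have e' : (g j : LyG) = iota (k' * k⁻¹) * g i * (iota (k' * k⁻¹))⁻¹ := by
        refine hinj _ (g j).2 _ (hN.conj_mem _ (g i).2 _) ?_
        rw [← hconj, hkj, QuotientGroup.eq]
        rw [QuotientGroup.eq] at hki
        simpa [mul_assoc, map_mul] using (iota.range).inv_mem hki
      have ho : orderOf (g j) = orderOf (g i) := by
        rw [← Subgroup.orderOf_coe, ← Subgroup.orderOf_coe, e', ← MulAut.conj_apply,
          MulEquiv.orderOf_eq]
      rw [hg, hg] at ho
      exact hij ((by decide : Function.Injective ![2, 3, 11, 37, 67]) ho.symm)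
  · right
    refine @top_of_range_le N hN ?_
    rw [iota_range]
    exact Subgroup.subgroupOf_eq_top.1 h

end Cfsg.Agent.DCoset.Ly
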