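import Cfsg.Agent.DCoset.Ly.Cert
import Cfsg.Agent.DCoset.Ly.Simple
import Cfsg.Agent.DCoset.LyOrb.All

/-!
The presented Lyons group has order 51765179004000000 and is simple.
-/

set_option autoImplicit false
set_option maxRecDepth 100000

namespace Cfsg.Agent.DCoset.Ly

open Cfsg.Agent.DCoset Cfsg.Agent.LyMat Cfsg.Spor

theorem ly_index : Finite LyG ∧ Nat.card LyG = 51765179004000000 ∧ lyH.index = 8835156 :=
  index_eq steps cover steps_ok node_src valid idx_sum LyOrb.dvd_all

theorem sub_check : ∀ S : Finset (Fin cover.nLive), (∀ m : Fin cover.nLive, m.1 = 0 → m ∈ S) →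
    (∑ m ∈ S, cover.idx m.1) ∣ 8835156 →
      (∑ m ∈ S, cover.idx m.1) = 1 ∨ (∑ m ∈ S, cover.idx m.1) = 8835156 := by
  decide +kernel

theorem ly_simple : IsSimpleGroup LyG :=
  simple_eq steps cover steps_ok node_src valid idx_sum rfl sub_check ly_index.1 ly_index.2.2

end Cfsg.Agent.DCoset.Ly
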