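import Cfsg.Agent.DCoset.PermModel
import Cfsg.Agent.DCoset.Ly.CheckRel0
import Cfsg.Agent.DCoset.Ly.CheckRel1
import Cfsg.Agent.DCoset.Ly.CheckRel2
import Cfsg.Agent.DCoset.Ly.CheckRel3
import Cfsg.Agent.DCoset.Ly.ModelChain
import Cfsg.Agent.LyMat.Main

/-!
The group presented by the first 44 relators of the Lyons group as a model: it acts faithfully on
3906 points and four of them form a base.
-/

set_option autoImplicit false
set_option maxRecDepth 100000

namespace Cfsg.Agent.DCoset.Ly

open Cfsg.Agent.DCoset Cfsg.Agent.CosetCert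

theorem letters_ok : allFrom (fun g => allFrom (letOk tab.act 3906 g) 0 3906) 0 8 = true := by
  decide +kernel

theorem let_ok {g : Nat} (hg : g < 8) {p : Nat} (hp : p < 3906) :
    tab.act g p < 3906 ∧ tab.act (ivL g) (tab.act g p) = p := by
  have h := allFrom_all (allFrom_all letters_ok hg) hp
  simp only [letOk, gate_eq, Bool.and_eq_true] at h
  exact ⟨Nat.ble_eq.mp h.1, Nat.eq_of_beq_eq_true h.2⟩

/-- A letter as a permutation. -/
noncomputable def letPerm (g : Fin 8) : Equiv.Perm (Fin 3906) :=
  Equiv.ofBijective (fun p => ⟨tab.act g.val p.val, (let_ok g.2 p.2).1⟩) (Finite.injective_iff_bijective.1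
    fun p p' h => Fin.ext (by
      have e : tab.act g.val p.val = tab.act g.val p'.val := congrArg Fin.val h
      rw [← (let_ok g.2 p.2).2, e, (let_ok g.2 p'.2).2]))

theorem letPerm_val (g : Fin 8) (p : Fin 3906) : (letPerm g p).val = tab.act g.val p.val := rfl

/-- The element of the acting group of a letter. -/
noncomputable def letEl (g : Nat) : Equiv.Perm (Fin 3906) := (letPerm (Fin.ofNat 8 g))⁻¹

theorem letEl_inv {g : Nat} (hg : g < 8) : (letEl (ivL g)) = (letEl g)⁻¹ := by
  have hi : ivL g < 8 := by unfold ivL; split_ifs <;> omega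
  rw [letEl, letEl, inv_inv]
  refine (inv_eq_of_mul_eq_one_left (Equiv.ext fun p => Fin.ext ?_))
  show (letPerm (Fin.ofNat 8 g) (letPerm (Fin.ofNat 8 (ivL g)) p)).val = _
  rw [letPerm_val, letPerm_val, Fin.val_ofNat, Fin.val_ofNat, Nat.mod_eq_of_lt hi, Nat.mod_eq_of_lt hg]
  have h := (let_ok hi p.2).2
  rw [show ivL (ivL g) = g by unfold ivL; split_ifs <;> omega] at h
  simpa using h

/-- The element of a word in the letters. -/
noncomputable def wordEl (l : List Nat) : Equiv.Perm (Fin 3906) := (l.map letEl).prod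

theorem wordEl_apply : ∀ (l : List Nat), (∀ g ∈ l, g < 8) → ∀ p : Fin 3906,
    ((wordEl l)⁻¹ p).val = goL tab.act l p.val
  | [], _, p => rfl
  | g :: l, hl, p => by
    rw [show wordEl (g :: l) = letEl g * wordEl l by simp [wordEl], mul_inv_rev,
      Equiv.Perm.mul_apply, wordEl_apply l (fun x hx => hl x (List.mem_cons_of_mem _ hx)), goL_eq,
      goL_eq, List.foldl_cons, letEl, inv_inv, letPerm_val, Fin.val_ofNat,
      Nat.mod_eq_of_lt (hl g List.mem_cons_self)]

/-- The image of a generator of `Q`. -/
noncomputable def genPerm (x : Fin 10) : Equiv.Perm (Fin 3906) := wordEl (genWord.getD x.val [])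

/-- A word in the generators, expanded in the letters. -/
def expand (w : List (Fin 10 × Bool)) : List Nat :=
  w.flatMap fun a => cond a.2 (genWord.getD a.1.val []) ((genWord.getD a.1.val []).reverse.map ivL)

theorem relFlat_eq : LyChain1.relWords.map expand = relFlat := by decide +kernel

theorem genWord_lt : ∀ x : Fin 10, ∀ g ∈ genWord.getD x.val [], g < 8 := by decide +kernel

theorem relFlat_lt : ∀ w ∈ relFlat, ∀ g ∈ w, g < 8 := by decide +kernel

theorem wordEl_rev : ∀ (l : List Nat), (∀ g ∈ l, g < 8) →
    wordEl (l.reverse.map ivL) = (wordEl l)⁻¹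
  | [], _ => by simp [wordEl]
  | g :: l, hl => by
    have ih := wordEl_rev l fun x hx => hl x (List.mem_cons_of_mem _ hx)
    simp only [wordEl, List.reverse_cons, List.map_append, List.prod_append] at ih ⊢
    rw [ih]
    simp [letEl_inv (hl g List.mem_cons_self), mul_inv_rev]

theorem lift_expand : ∀ w : List (Fin 10 × Bool),
    FreeGroup.lift genPerm (FreeGroup.mk w) = wordEl (expand w)
  | [] => by simp [wordEl, expand, FreeGroup.lift_mk]
  | (x, s) :: w => by
    have ih := lift_expand w
    rw [FreeGroup.lift_mk] at ih ⊢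
    have e : wordEl (expand ((x, s) :: w)) =
        wordEl (cond s (genWord.getD x.val []) ((genWord.getD x.val []).reverse.map ivL)) *
          wordEl (expand w) := by
      simp [wordEl, expand]
    rw [e, List.map_cons, List.prod_cons, ih]
    cases s
    · simp only [cond_false, wordEl_rev _ (genWord_lt x)]
      rfl
    · simp [genPerm]

theorem rel_fix {w : List Nat} (hw : w ∈ relFlat) {p : Nat} (hp : p < 3906) :
    goL tab.act w p = p := by
  have key : ∀ (i : Nat), allFrom (fixAll tab.act ((relFlat.drop (11 * i)).take 11)) 0 3906 = true →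
      w ∈ (relFlat.drop (11 * i)).take 11 → goL tab.act w p = p := fun i h hm =>
    Nat.eq_of_beq_eq_true (List.all_eq_true.1 (allFrom_all h hp) w hm)
  have hm : w ∈ (relFlat.drop 0).take 11 ∨ w ∈ (relFlat.drop 11).take 11 ∨
      w ∈ (relFlat.drop 22).take 11 ∨ w ∈ (relFlat.drop 33).take 11 := by
    have : relFlat = (relFlat.drop 0).take 11 ++ ((relFlat.drop 11).take 11 ++
        ((relFlat.drop 22).take 11 ++ (relFlat.drop 33).take 11)) := by decide +kernel
    rw [this] at hw
    simpa using hw
  rcases hm with h | h | h | h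
  · exact key 0 (allFrom_append 3000 (allFrom_append 2000 (allFrom_append 1000 rel_0_0 rel_0_1) rel_0_2) rel_0_3) h
  · exact key 1 (allFrom_append 3000 (allFrom_append 2000 (allFrom_append 1000 rel_1_0 rel_1_1) rel_1_2) rel_1_3) h
  · exact key 2 (allFrom_append 3000 (allFrom_append 2000 (allFrom_append 1000 rel_2_0 rel_2_1) rel_2_2) rel_2_3) h
  · exact key 3 (allFrom_append 3000 (allFrom_append 2000 (allFrom_append 1000 rel_3_0 rel_3_1) rel_3_2) rel_3_3) h

theorem gen_rels : ∀ r ∈ wordRels LyChain1.relWords, FreeGroup.lift genPerm r = 1 := by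
  intro r hr
  obtain ⟨w, hw, rfl⟩ := List.mem_map.1 hr
  have hm : expand w ∈ relFlat := relFlat_eq ▸ List.mem_map_of_mem hw
  rw [lift_expand, ← inv_eq_one]
  exact Equiv.ext fun p => Fin.ext (by
    rw [wordEl_apply _ (relFlat_lt _ hm), rel_fix hm p.2]; rfl)

/-- The action of `Q` on the points. -/
noncomputable def rho : LyMat.Q →* Equiv.Perm (Fin 3906) := PresentedGroup.toGroup gen_rels

/-- The letters in `Q`. -/
noncomputable def qL (g : Nat) : LyMat.Q :=
  if g < 4 then PresentedGroup.of (Fin.ofNat 10 g) else (PresentedGroup.of (Fin.ofNat 10 (g - 4)))⁻¹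

theorem genWord_letter : ∀ g : Fin 4, genWord.getD g.val [] = [g.val] := by decide +kernel

theorem rho_qL {g : Nat} (hg : g < 8) : rho (qL g) = letEl g := by
  have hof : ∀ x, x < 4 → rho (PresentedGroup.of (Fin.ofNat 10 x)) = letEl x := fun x hx => by
    rw [rho, PresentedGroup.toGroup.of]
    show wordEl _ = _
    rw [Fin.val_ofNat, Nat.mod_eq_of_lt (by omega : x < 10), genWord_letter ⟨x, hx⟩]
    simp [wordEl]
  rw [qL]
  split_ifs with h
  · exact hof g h
  · rw [map_inv, hof _ (by omega), ← letEl_inv (by omega : g - 4 < 8), ivL, if_pos (by omega)]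
    congr 1
    omega

/-- The base points. -/
def bpt (l : Nat) : Fin 3906 := Fin.ofNat 3906 ([2, 3, 1, 4].getD l 0)

theorem acts : Acts rho tab qL bpt where
  small := by norm_num
  act_eq g hg p := by
    change g < 8 at hg
    rw [rho_qL hg, letEl, inv_inv, letPerm_val, Fin.val_ofNat, Nat.mod_eq_of_lt hg]
  act_lt := tab_act_lt
  base_eq := by decide +kernel

theorem qChain_gen : allFrom (fun l => allFrom (QModel.checkGen tab qChain l) 0 (qChain.nGen l)) 0 4 = true := by
  decide +kernel

theorem qChain_pt : allFrom (fun l => allFrom (QModel.checkPt tab qChain l) 0 (qChain.size l)) 0 4 = true := by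
  decide +kernel

theorem qChain_prod : ((List.range tab.k).map qChain.size).prod = 5859000000 := by
  decide +kernel

theorem q_finite : Finite LyMat.Q := LyMat.q_card.1

theorem rho_faithful : ∀ a : LyMat.Q, (∀ l, l < tab.k → (rho a)⁻¹ (bpt l) = bpt l) → a = 1 :=
  have := q_finite
  acts.faithful qChain LyMat.q_card.2 qChain_prod
    (fun l a hl ha => allFrom_all (allFrom_all qChain_gen hl) ha)
    (fun l m hl hm => allFrom_all (allFrom_all qChain_pt hl) hm)

/-- The model. -/
noncomputable def model : QModel LyMat.Q := acts.toQModel rho_faithful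

end Cfsg.Agent.DCoset.Ly
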