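import Mathlib
import Cfsg.Agent.DCoset.Pts

/-! Generated by tools/dcoset/emit.py: derivations of the rules. -/

set_option Elab.async false

namespace Cfsg.Agent.DCoset.Ly

open Cfsg.Agent.DCoset Cfsg.Agent.CosetCert

/-- Each rule as a product of conjugates of relators. -/
def ruleCert : List (List (List (Fin 5 × Bool) × Nat × Bool)) := [
  [],
  [],
  [],
  [],
  [],
  [],
  [],
  [],
  [([(2, true), (4, true), (0, false), (1, false), (2, true), (0, false), (1, true), (2, true), (1, false), (0, true), (1, true), (0, true)], 72, false)],
  [([(0, false), (2, true), (0, true), (4, true), (1, false), (2, false), (1, false), (0, true), (2, false), (0, false), (1, true), (1, true)], 73, false)],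
  [([(1, false), (2, true), (1, true), (4, true), (0, false), (1, false), (0, false), (2, false), (0, true), (1, true), (0, true)], 74, false)],
  [([(1, true), (2, true), (1, false), (4, true), (1, false), (0, false), (1, true), (2, false), (1, false), (0, true), (1, true)], 75, false)],
  [([(2, false), (0, false), (2, false), (0, true), (2, true), (0, false), (2, true), (0, true), (4, true), (2, true), (1, true), (1, true), (2, false), (0, false), (1, false), (2, false), (1, true), (0, true), (1, false), (1, false)], 76, false)],
  [([(0, true), (4, true), (0, true), (0, true), (0, true)], 77, false)],
  [([(1, true), (0, true), (1, false), (4, true), (0, true), (0, true), (1, true), (0, true), (1, false)], 78, false)],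
  [([(1, true), (1, true), (0, true), (1, false), (1, false), (4, true), (0, true), (1, true), (1, true), (0, false), (1, false), (1, false), (0, false)], 79, false)],
  [([(2, false), (4, true)], 72, true)],
  [([(0, false), (2, false), (0, true), (4, true)], 73, true)],
  [([(1, false), (2, false), (1, true), (4, true)], 74, true)],
  [([(1, true), (2, false), (1, false), (4, true)], 75, true)],
  [([(0, false), (2, false), (0, true), (2, false), (0, false), (2, true), (0, true), (2, true), (4, true)], 76, true)],
  [([(0, false), (4, true)], 77, true)],
  [([(1, true), (0, false), (1, false), (4, true)], 78, true)],
  [([(1, true), (1, true), (0, false), (1, false), (1, false), (4, true)], 79, true)],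
  [([(4, true), (0, false), (0, false)], 80, false), ([(2, true), (4, true), (0, false), (1, false), (2, true), (0, false), (1, true), (2, true), (1, false), (0, true), (1, true), (0, true)], 72, false), ([(2, true), (4, false)], 80, true)],
  [([(4, true), (0, false), (0, false)], 80, false), ([(0, false), (2, true), (0, true), (4, true), (1, false), (2, false), (1, false), (0, true), (2, false), (0, false), (1, true), (1, true)], 73, false), ([(0, false), (2, true), (0, true), (4, false)], 80, true)],
  [([(4, true), (0, false), (0, false)], 80, false), ([(1, false), (2, true), (1, true), (4, true), (0, false), (1, false), (0, false), (2, false), (0, true), (1, true), (0, true)], 74, false), ([(1, false), (2, true), (1, true), (4, false)], 80, true)],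
  [([(4, true), (0, false), (0, false)], 80, false), ([(1, true), (2, true), (1, false), (4, true), (1, false), (0, false), (1, true), (2, false), (1, false), (0, true), (1, true)], 75, false), ([(1, true), (2, true), (1, false), (4, false)], 80, true)],
  [([(4, true), (0, false), (0, false)], 80, false), ([(2, false), (0, false), (2, false), (0, true), (2, true), (0, false), (2, true), (0, true), (4, true), (2, true), (1, true), (1, true), (2, false), (0, false), (1, false), (2, false), (1, true), (0, true), (1, false), (1, false)], 76, false), ([(2, false), (0, false), (2, false), (0, true), (2, true), (0, false), (2, true), (0, true), (4, false)], 80, true)],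
  [([(4, true), (0, false), (0, false)], 80, false), ([(0, true), (4, true), (0, true), (0, true), (0, true)], 77, false), ([(0, true), (4, false)], 80, true)],
  [([(4, true), (0, false), (0, false)], 80, false), ([(1, true), (0, true), (1, false), (4, true), (0, true), (0, true), (1, true), (0, true), (1, false)], 78, false), ([(1, true), (0, true), (1, false), (4, false)], 80, true)],
  [([(4, true), (0, false), (0, false)], 80, false), ([(1, true), (1, true), (0, true), (1, false), (1, false), (4, true), (0, true), (1, true), (1, true), (0, false), (1, false), (1, false), (0, false)], 79, false), ([(1, true), (1, true), (0, true), (1, false), (1, false), (4, false)], 80, true)],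
  [([(4, true), (0, false), (0, false)], 80, false), ([(2, false), (4, true)], 72, true), ([(2, false), (4, false)], 80, true)],
  [([(4, true), (0, false), (0, false)], 80, false), ([(0, false), (2, false), (0, true), (4, true)], 73, true), ([(0, false), (2, false), (0, true), (4, false)], 80, true)],
  [([(4, true), (0, false), (0, false)], 80, false), ([(1, false), (2, false), (1, true), (4, true)], 74, true), ([(1, false), (2, false), (1, true), (4, false)], 80, true)],
  [([(4, true), (0, false), (0, false)], 80, false), ([(1, true), (2, false), (1, false), (4, true)], 75, true), ([(1, true), (2, false), (1, false), (4, false)], 80, true)],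
  [([(4, true), (0, false), (0, false)], 80, false), ([(0, false), (2, false), (0, true), (2, false), (0, false), (2, true), (0, true), (2, true), (4, true)], 76, true), ([(0, false), (2, false), (0, true), (2, false), (0, false), (2, true), (0, true), (2, true), (4, false)], 80, true)],
  [([(4, true), (0, false), (0, false)], 80, false), ([(0, false), (4, true)], 77, true), ([(0, false), (4, false)], 80, true)],
  [([(4, true), (0, false), (0, false)], 80, false), ([(1, true), (0, false), (1, false), (4, true)], 78, true), ([(1, true), (0, false), (1, false), (4, false)], 80, true)],
  [([(4, true), (0, false), (0, false)], 80, false), ([(1, true), (1, true), (0, false), (1, false), (1, false), (4, true)], 79, true), ([(1, true), (1, true), (0, false), (1, false), (1, false), (4, false)], 80, true)]]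

/-- Each rotated relator as a conjugate of a relator. -/
def relCert : List (List (List (Fin 5 × Bool) × Nat × Bool)) := [
  [([], 80, true)],
  [([(4, false)], 80, true)],
  [([(1, false), (1, false), (0, false), (1, true), (1, true)], 81, true)],
  [([(1, false), (1, false), (0, false), (1, true), (1, true), (4, false), (1, false), (1, false), (0, false), (1, true), (1, true)], 81, true)],
  [([(1, false), (1, false), (0, false), (1, true), (1, true), (4, false), (1, false), (1, false), (0, false), (1, true), (1, true), (4, false), (1, false), (1, false), (0, false), (1, true), (1, true)], 81, true)],
  [([(3, true), (2, true), (1, false), (0, true), (2, true), (0, true), (3, true), (2, true)], 82, true)],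
  [([(1, true), (0, false), (1, false), (0, false), (1, true), (0, false), (2, true), (0, true), (1, true), (2, true), (1, false), (3, true), (2, true), (1, false), (0, true), (2, true), (1, true), (3, false), (0, true), (4, false), (3, true), (2, true), (1, false), (0, true), (2, true), (0, true), (3, true), (2, true)], 82, true)],
  [([(1, true), (1, true), (0, true), (1, true), (2, true), (1, true), (1, true), (2, false), (0, false), (2, true), (0, true), (3, true), (2, true), (0, false), (1, true), (2, true), (0, false), (3, true), (2, true), (0, true), (4, false), (1, true), (0, false), (1, false), (0, false), (1, true), (0, false), (2, true), (0, true), (1, true), (2, true), (1, false), (3, true), (2, true), (1, false), (0, true), (2, true), (1, true), (3, false), (0, true), (4, false), (3, true), (2, true), (1, false), (0, true), (2, true), (0, true), (3, true), (2, true)], 82, true)],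
  [([], 83, true)],
  [([(3, true), (4, true)], 83, true)],
  [([(1, true), (0, false), (1, true), (1, true), (0, false), (1, true), (2, true), (1, true), (0, true), (1, false), (3, true), (2, true), (1, true), (0, true), (1, false), (3, true), (2, true), (0, true), (4, true), (3, true), (4, true)], 83, true)],
  [([(3, false), (4, false), (1, true), (0, false), (1, true), (1, true), (0, false), (1, true), (2, true), (1, true), (0, true), (1, false), (3, true), (2, true), (1, true), (0, true), (1, false), (3, true), (2, true), (0, true), (4, true), (3, true), (4, true)], 83, true)],
  [([], 84, true)],
  [([(2, false), (1, false), (2, false), (3, false), (1, true), (1, true), (2, false), (3, false), (1, false), (2, false), (1, false), (1, false), (2, false), (1, true), (0, true), (1, true), (1, true), (0, true), (1, true), (0, false), (1, false), (4, false)], 84, true)],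
  [([(3, true), (1, true), (2, false), (0, true), (2, false), (0, false), (2, false), (3, false), (2, true), (2, true), (0, true), (1, false), (2, true), (1, false), (2, false), (0, true), (1, true), (1, true), (0, false), (4, false), (2, false), (1, false), (2, false), (3, false), (1, true), (1, true), (2, false), (3, false), (1, false), (2, false), (1, false), (1, false), (2, false), (1, true), (0, true), (1, true), (1, true), (0, true), (1, true), (0, false), (1, false), (4, false)], 84, true)],
  [([(1, true), (0, true), (1, false), (0, false), (1, false), (1, false), (0, false), (1, false), (2, true), (1, true), (1, true), (2, true), (1, true), (3, true), (2, true), (1, false), (1, false), (3, true), (2, true), (1, true), (2, true), (4, true), (3, true), (1, true), (2, false), (0, true), (2, false), (0, false), (2, false), (3, false), (2, true), (2, true), (0, true), (1, false), (2, true), (1, false), (2, false), (0, true), (1, true), (1, true), (0, false), (4, false), (2, false), (1, false), (2, false), (3, false), (1, true), (1, true), (2, false), (3, false), (1, false), (2, false), (1, false), (1, false), (2, false), (1, true), (0, true), (1, true), (1, true), (0, true), (1, true), (0, false), (1, false), (4, false)], 84, true)],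
  [([], 85, true)],
  [([(3, false), (1, false), (4, false)], 85, true)],
  [([(1, false), (2, false), (0, true), (1, false), (1, false), (2, true), (3, false), (2, true), (0, true), (2, false), (0, false), (2, true), (1, false), (1, false), (0, true), (1, true), (0, true), (1, false), (1, false), (4, false), (3, false), (1, false), (4, false)], 85, true)],
  [([(1, true), (3, true), (4, true), (1, false), (2, false), (0, true), (1, false), (1, false), (2, true), (3, false), (2, true), (0, true), (2, false), (0, false), (2, true), (1, false), (1, false), (0, true), (1, true), (0, true), (1, false), (1, false), (4, false), (3, false), (1, false), (4, false)], 85, true)]]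

end Cfsg.Agent.DCoset.Ly
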