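import Cfsg.Agent.DCoset.Ly.Model
import Cfsg.Agent.DCoset.Ly.RuleData
import Cfsg.Agent.DCoset.Ly.RuleCert
import Cfsg.Agent.DCoset.Steps

/-!
The rules and relators of the double coset enumeration hold in the presented Lyons group: every
generator is its word in a, b, c, d, z and every rule is a product of conjugates of relators.
-/

set_option autoImplicit false
set_option maxRecDepth 100000

namespace Cfsg.Agent.DCoset.Ly

open Cfsg.Agent.DCoset Cfsg.Agent.CosetCert Cfsg.Agent.LyMat Cfsg.Spor

/-- The Lyons group. -/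
abbrev LyG : Type := PresentedGroup lyRels

/-- Its five generators a, b, c, d, z. -/
def u5 : Fin 5 → LyG :=
  ![PresentedGroup.of Ly.Gen.a, PresentedGroup.of Ly.Gen.b, PresentedGroup.of Ly.Gen.c,
    PresentedGroup.of Ly.Gen.d, PresentedGroup.of Ly.Gen.z]

/-- The value of a word in a, b, c, d, z. -/
def ev5 (l : List (Fin 5 × Bool)) : LyG := FreeGroup.lift u5 (FreeGroup.mk l)

theorem ev5_append (l l' : List (Fin 5 × Bool)) : ev5 (l ++ l') = ev5 l * ev5 l' := by
  rw [ev5, ev5, ev5, ← map_mul, FreeGroup.mul_mk]

theorem ev5_nil : ev5 [] = 1 := by rw [ev5, ← FreeGroup.one_eq_mk, map_one]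

theorem ev5_inv (l : List (Fin 5 × Bool)) : ev5 (FreeGroup.invRev l) = (ev5 l)⁻¹ := by
  rw [ev5, ev5, ← map_inv, FreeGroup.inv_mk]

theorem ev5_reduce (l : List (Fin 5 × Bool)) : ev5 (FreeGroup.reduce l) = ev5 l := by
  rw [ev5, ev5, FreeGroup.reduce.self]

/-- A generator is its word in a, b, c, d, z. -/
def GoodGen (g : Ly.Gen) : Prop := (PresentedGroup.of g : LyG) = genImg u5 g

theorem good_base : GoodGen .a ∧ GoodGen .b ∧ GoodGen .c ∧ GoodGen .d ∧ GoodGen .z := by
  refine ⟨?_, ?_, ?_, ?_, ?_⟩ <;> simp [GoodGen, genImg, expG, u5, FreeGroup.lift_mk]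

theorem mk_word_eq : ∀ (l : List (Ly.Gen × Bool)), (∀ x ∈ l, GoodGen x.1) →
    PresentedGroup.mk lyRels (FreeGroup.mk l) = ev5 (expW l)
  | [], _ => by
    rw [show expW [] = [] from rfl, ev5_nil, ← FreeGroup.one_eq_mk, map_one]
  | (g, s) :: l, h => by
    rw [show (g, s) :: l = [(g, s)] ++ l from rfl, ← FreeGroup.mul_mk, map_mul,
      mk_word_eq l fun x hx => h x (List.mem_cons_of_mem _ hx), expW, ev5_reduce, expW, ev5_reduce,
      show expW0 ([(g, s)] ++ l) = cond s (expG g) (FreeGroup.invRev (expG g)) ++ expW0 l by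
        simp [expW0], ev5_append]
    congr 1
    have hg := h (g, s) List.mem_cons_self
    cases s
    · have e : (FreeGroup.mk [(g, false)] : FreeGroup Ly.Gen) = (FreeGroup.of g)⁻¹ := rfl
      rw [e, map_inv, cond_false, ev5_inv]
      exact congrArg (·⁻¹) hg
    · exact hg

/-- The definitions of the auxiliary generators, by position and name. -/
def defList : List (Nat × Ly.Gen) :=
  [(5, .c1), (6, .c2), (7, .c3), (8, .c4), (9, .c5), (28, .e), (44, .a1), (45, .a2), (46, .a3),
   (47, .a4), (48, .u), (49, .x23), (50, .x24), (51, .x25), (52, .x29), (53, .x47), (54, .x96),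
   (55, .x129), (56, .x162), (57, .x163), (58, .x164), (59, .x165), (60, .x166), (61, .x167),
   (62, .x168), (63, .x169), (64, .x364), (65, .x365), (66, .x366), (67, .x367), (68, .x368),
   (69, .x369), (70, .x370), (71, .x371)]

/-- Entry `(k, g)`: relator `k` is `g` times a word in generators known to be good. -/
def defCheck (known : List Ly.Gen) (e : Nat × Ly.Gen) : Bool :=
  match ((Ly.extra.getD e.1 1).toWord) with
  | [] => false
  | x :: w => decide (x = (e.2, true)) && w.all (fun y => known.contains y.1) &&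
      decide (FreeGroup.reduce (expG e.2 ++ expW w) = [])

theorem defs_ok : ((List.range defList.length).all fun i =>
    defCheck ([.a, .b, .c, .d, .z] ++ (defList.take i).map Prod.snd) (defList.getD i (0, .a))) = true := by
  decide +kernel

theorem extra_mem (k : Nat) : PresentedGroup.mk lyRels (Ly.extra.getD k 1) = 1 := by
  by_cases hk : k < Ly.extra.length
  · rw [List.getD_eq_getElem _ _ hk]
    exact PresentedGroup.one_of_mem (Or.inr (List.getElem_mem hk))
  · rw [List.getD_eq_default _ _ (by omega), map_one]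

theorem good_upto : ∀ i, i ≤ defList.length →
    ∀ g ∈ [Ly.Gen.a, .b, .c, .d, .z] ++ (defList.take i).map Prod.snd, GoodGen g
  | 0, _, g, hg => by
    obtain ⟨h1, h2, h3, h4, h5⟩ := good_base
    simp at hg
    rcases hg with rfl | rfl | rfl | rfl | rfl <;> assumption
  | i + 1, hi, g, hg => by
    have ih := good_upto i (by omega)
    rw [List.take_succ_eq_append_getElem (by omega : i < defList.length), List.map_append,
      ← List.append_assoc, List.mem_append] at hg
    rcases hg with hg | hg
    · exact ih g hg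
    · have h := List.all_eq_true.1 defs_ok i (List.mem_range.2 (by omega))
      rw [List.getD_eq_getElem _ _ (by omega : i < defList.length)] at h
      simp only [List.map_cons, List.map_nil, List.mem_singleton] at hg
      subst hg
      unfold defCheck at h
      have hrel := extra_mem (defList[i]).1
      rw [← FreeGroup.mk_toWord (x := Ly.extra.getD (defList[i]).1 1)] at hrel
      revert h hrel
      cases (Ly.extra.getD (defList[i]).1 1).toWord with
      | nil => intro h; exact absurd h (by simp)
      | cons x w =>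
        intro h hrel
        simp only [Bool.and_eq_true, decide_eq_true_eq] at h
        obtain ⟨⟨hx, hall⟩, hred⟩ := h
        subst hx
        rw [show ((defList[i]).2, true) :: w = [((defList[i]).2, true)] ++ w from rfl,
          ← FreeGroup.mul_mk, map_mul, mk_word_eq w fun y hy => ih y.1
            (List.contains_iff_mem.1 (List.all_eq_true.1 hall y hy))] at hrel
        have e : ev5 (expG (defList[i]).2) * ev5 (expW w) = 1 := by
          rw [← ev5_append, ← ev5_reduce, hred, ev5_nil]
        exact mul_right_cancel (hrel.trans e.symm)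

theorem good_all (g : Ly.Gen) : GoodGen g := by
  have hm : g ∈ [Ly.Gen.a, .b, .c, .d, .z] ++ (defList.take defList.length).map Prod.snd := by
    revert g
    intro g
    cases g <;> decide +kernel
  exact good_upto _ le_rfl g hm

/-- An expanded relator. -/
def relE (k : Nat) : List (Fin 5 × Bool) := expW (Ly.extra.getD k 1).toWord

theorem relE_one (k : Nat) : ev5 (relE k) = 1 := by
  rw [relE, ← mk_word_eq _ (fun x _ => good_all x.1), FreeGroup.mk_toWord, extra_mem]

/-- A product of conjugates of relators. -/
def certWord (c : List (List (Fin 5 × Bool) × Nat × Bool)) : List (Fin 5 × Bool) :=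
  c.flatMap fun e => e.1 ++ cond e.2.2 (relE e.2.1) (FreeGroup.invRev (relE e.2.1)) ++
    FreeGroup.invRev e.1

theorem certWord_one : ∀ c, ev5 (certWord c) = 1
  | [] => ev5_nil
  | e :: c => by
    rw [show certWord (e :: c) = e.1 ++ cond e.2.2 (relE e.2.1) (FreeGroup.invRev (relE e.2.1)) ++
      FreeGroup.invRev e.1 ++ certWord c by simp [certWord], ev5_append, certWord_one c, ev5_append,
      ev5_append, ev5_inv]
    cases e.2.2 <;> simp [ev5_inv, relE_one]

theorem eq_of_cert {l l' : List (Fin 5 × Bool)} (c : List (List (Fin 5 × Bool) × Nat × Bool))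
    (h : FreeGroup.reduce (l ++ FreeGroup.invRev l') = FreeGroup.reduce (certWord c)) :
    ev5 l = ev5 l' := by
  have e : ev5 (l ++ FreeGroup.invRev l') = 1 := by
    rw [← ev5_reduce, h, ev5_reduce, certWord_one]
  rwa [ev5_append, ev5_inv, mul_inv_eq_one] at e

/-- A letter of the model in a, b, c, d. -/
def let5 (g : Nat) : Fin 5 × Bool := if g < 4 then (Fin.ofNat 5 g, true) else (Fin.ofNat 5 (g - 4), false)

/-- The letters of a packed word. -/
def unpW : Nat → Nat → List (Fin 5 × Bool)
  | 0, _ => []
  | n + 1, w => let5 (w % 256) :: unpW n (w / 256)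

/-- A packed word in a, b, c, d. -/
def unp (w : Nat) : List (Fin 5 × Bool) := unpW (w % 65536) (w / 65536)

/-- The words of the extra letters. -/
def tW : Nat → List (Fin 5 × Bool)
  | 1 => [(4, true)]
  | 2 => [(4, false)]
  | _ => []

/-- The extra letters. -/
noncomputable def tEl (t : Nat) : LyG := ev5 (tW t)

theorem gen_mem4 : ∀ i : Fin 4, LyChain1.ren (Fin.ofNat 10 i.val) =
    ![Ly.Gen.a, Ly.Gen.b, Ly.Gen.c, Ly.Gen.d] i := by decide +kernel

/-- The map of the model into the group. -/
theorem exists_iota : ∃ ι : LyMat.Q →* LyG, ∀ w,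
    ι (PresentedGroup.mk _ w) = PresentedGroup.mk lyRels (FreeGroup.map LyChain1.ren w) :=
  exists_rename LyChain1.relWords LyChain1.ren (one_of_ok (by decide +kernel))

/-- The model maps to the group. -/
noncomputable def iota : LyMat.Q →* LyG := Classical.choose exists_iota

theorem iota_of (i : Fin 10) : iota (PresentedGroup.of i) = PresentedGroup.of (LyChain1.ren i) := by
  have h := Classical.choose_spec exists_iota (FreeGroup.of i)
  rw [FreeGroup.map.of] at h
  exact h

theorem iota_qL {g : Nat} (hg : g < 8) : iota (qL g) = ev5 [let5 g] := by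
  have hof : ∀ x, x < 4 → iota (PresentedGroup.of (Fin.ofNat 10 x)) = u5 (Fin.ofNat 5 x) := by
    intro x hx
    rw [iota_of, gen_mem4 ⟨x, hx⟩]
    rcases x with _ | _ | _ | _ | x <;> first | rfl | omega
  unfold qL let5
  split_ifs with h
  · rw [hof g h]; simp [ev5, FreeGroup.lift_mk]
  · rw [map_inv, hof _ (by omega)]; simp [ev5, FreeGroup.lift_mk]

theorem val_unp : ∀ n w, lettersBelow 8 n w = true →
    valW (fun g => iota (qL g)) n w = ev5 (unpW n w)
  | 0, _, _ => ev5_nil.symm
  | n + 1, w, hl => by
    rw [lettersBelow_succ, Bool.and_eq_true] at hl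
    rw [valW, val_unp n _ hl.2, iota_qL (Nat.ble_eq.mp hl.1), ← ev5_append]
    rfl

theorem val_word {w : Nat} (hw : tab.okWord w = true) :
    val (model.toModel iota).lv w = ev5 (unp w) := val_unp _ _ hw

/-- Rule `r` follows from its certificate. -/
noncomputable def ruleChk (r : Nat) : Bool :=
  decide (FreeGroup.reduce ((tW (rules.rS r) ++ unp (rules.rV r)) ++
      FreeGroup.invRev (unp (rules.rU r) ++ tW (rules.rD r))) =
    FreeGroup.reduce (certWord (ruleCert.getD r [])))

/-- The word on the left of relator `r`. -/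
noncomputable def relLhs (r : Nat) : List (Fin 5 × Bool) :=
  tW (rules.relHd r) ++ (List.range (rules.relLen r)).flatMap fun m =>
    unp (rules.relW r m) ++ tW (rules.relT r m)

/-- Relator `r` follows from its certificate. -/
noncomputable def relChk (r : Nat) : Bool :=
  decide (FreeGroup.reduce (relLhs r ++ FreeGroup.invRev (unp (rules.relTl r))) =
    FreeGroup.reduce (certWord (relCert.getD r [])))

theorem rule_chk : ((List.range 52).all fun r => Nat.blt (rules.rS r) 3 && Nat.blt (rules.rD r) 3 &&
    tab.okWord (rules.rU r) && tab.okWord (rules.rV r) && ruleChk r) = true := by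
  decide +kernel

theorem rel_chk : ((List.range 20).all fun r => Nat.blt (rules.relHd r) 3 &&
    tab.okWord (rules.relTl r) && relChk r && (List.range (rules.relLen r)).all fun m =>
      Nat.blt (rules.relT r m) 3 && tab.okWord (rules.relW r m)) = true := by
  decide +kernel

theorem rel_prod (r : Nat) : ∀ k,
    (∀ m, m < k → tab.okWord (rules.relW r m) = true) →
    ((List.range k).map fun m => val (model.toModel iota).lv (rules.relW r m) *
      tEl (rules.relT r m)).prod =
    ev5 ((List.range k).flatMap fun m => unp (rules.relW r m) ++ tW (rules.relT r m))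
  | 0, _ => ev5_nil.symm
  | k + 1, h => by
    rw [List.range_succ, List.map_append, List.prod_append, List.flatMap_append, ev5_append,
      rel_prod r k fun m hm => h m (by omega)]
    simp [val_word (h k (by omega)), tEl, ev5_append]

/-- The rules hold. -/
theorem sound : rules.Sound (model.toModel iota) tEl where
  T_zero := ev5_nil
  inv_eq τ hτ := by
    change τ < 3 at hτ
    have h : ∀ t : Fin 3, rules.invT t.val < 3 ∧
        FreeGroup.reduce (tW t.val ++ tW (rules.invT t.val)) = [] := by decide +kernel
    obtain ⟨h1, h2⟩ := h ⟨τ, hτ⟩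
    refine ⟨h1, ?_⟩
    rw [tEl, tEl, ← ev5_append, ← ev5_reduce, h2, ev5_nil]
  mul_eq σ τ hσ hτ := by
    change σ < 3 at hσ
    change τ < 3 at hτ
    have h : ∀ s t : Fin 3, rules.mulT s.val t.val ≠ 0 → rules.mulT s.val t.val - 1 < 3 ∧
        FreeGroup.reduce (tW s.val ++ tW t.val) =
          FreeGroup.reduce (tW (rules.mulT s.val t.val - 1)) := by decide +kernel
    intro h0
    obtain ⟨h1, h2⟩ := h ⟨σ, hσ⟩ ⟨τ, hτ⟩ h0
    refine ⟨h1, ?_⟩
    rw [tEl, tEl, tEl, ← ev5_append, ← ev5_reduce, h2, ev5_reduce]
  rule_ok r hr := by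
    change r < 52 at hr
    have h := List.all_eq_true.1 rule_chk r (List.mem_range.2 hr)
    simp only [Bool.and_eq_true] at h
    obtain ⟨⟨⟨⟨hS, hD⟩, hU⟩, hV⟩, hc⟩ := h
    refine ⟨Nat.ble_eq.mp hS, Nat.ble_eq.mp hD, hU, hV, ?_⟩
    rw [val_word hU, val_word hV, tEl, tEl, ← ev5_append, ← ev5_append]
    exact eq_of_cert _ (of_decide_eq_true hc)
  rel_ok r hr := by
    change r < 20 at hr
    have h := List.all_eq_true.1 rel_chk r (List.mem_range.2 hr)
    simp only [Bool.and_eq_true] at h
    obtain ⟨⟨⟨hH, hT⟩, hc⟩, hW⟩ := h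
    have hW' : ∀ m, m < rules.relLen r → rules.relT r m < 3 ∧
        tab.okWord (rules.relW r m) = true := fun m hm => by
      have := List.all_eq_true.1 hW m (List.mem_range.2 hm)
      simp only [Bool.and_eq_true] at this
      exact ⟨Nat.ble_eq.mp this.1, this.2⟩
    refine ⟨Nat.ble_eq.mp hH, hT, hW', ?_⟩
    rw [val_word hT, rel_prod r _ fun m hm => (hW' m hm).2, tEl, ← ev5_append]
    exact eq_of_cert _ (of_decide_eq_true hc)

theorem range_gen : Subgroup.closure (Set.range iota ∪ {x | ∃ t, t < rules.nT ∧ x = tEl t}) = ⊤ := by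
  rw [eq_top_iff, ← PresentedGroup.closure_range_of lyRels, Subgroup.closure_le]
  have h5 : ∀ i, u5 i ∈ Subgroup.closure (Set.range iota ∪ {x | ∃ t, t < rules.nT ∧ x = tEl t}) := by
    intro i
    apply Subgroup.subset_closure
    have hq : ∀ j : Fin 4, u5 j.castSucc = iota (PresentedGroup.of (Fin.ofNat 10 j.val)) := fun j => by
      rw [iota_of, gen_mem4]
      fin_cases j <;> rfl
    induction i using Fin.lastCases with
    | last => exact Or.inr ⟨1, by decide, by simp [tEl, tW, ev5, FreeGroup.lift_mk]⟩
    | cast j => exact Or.inl ⟨_, (hq j).symm⟩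
  rintro _ ⟨g, rfl⟩
  rw [good_all g, genImg]
  exact (show (FreeGroup.lift u5).range ≤ _ by
    rw [FreeGroup.range_lift_eq_closure, Subgroup.closure_le]
    rintro _ ⟨i, rfl⟩
    exact h5 i) ⟨_, rfl⟩

end Cfsg.Agent.DCoset.Ly
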